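import Groth.Agent.GoodQuot99.Orbits
import Groth.Agent.RedPts82.GrpIrred
import Groth.Agent.SchBasics.Reduced
import Groth.Agent.AbSch7.FieldH0
import Groth.Agent.AlgGrp79.AbelianBasic
import Groth.Agent.S14577

/-!
The connected component at the origin of a fibre of a morphism from an abelian variety is a subgroup.
-/

set_option autoImplicit false
set_option linter.style.haveILetI false

noncomputable section

universe u

open CategoryTheory MonoidalCategory CartesianMonoidalCategory MonObj AlgebraicGeometry CategoryTheory.Limits TopologicalSpace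
open Groth.Agent.Var76.ActTrans Groth.Agent.GoodQuot99

namespace Groth.Agent.AbFibre99

variable {k : Type u} [Field k]

theorem isClosed_connectedComponentIn {α : Type*} [TopologicalSpace α] {F : Set α} (hF : IsClosed F) {x : α}
    (hx : x ∈ F) : IsClosed (connectedComponentIn F x) := by
  rw [connectedComponentIn_eq_image hx]
  exact hF.isClosedEmbedding_subtypeVal.isClosedMap _ isClosed_connectedComponent

theorem isClosed_pt {Y : Over (Spec (CommRingCat.of k))} (y : 𝟙_ (Over (Spec (CommRingCat.of k))) ⟶ Y) :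
    IsClosed {pt y} :=
  closure_eq_iff_isClosed.mp (Set.Subset.antisymm (fun _ hz => eq_of_mem_closure y hz) subset_closure)

variable [IsAlgClosed k]

/-- A morphism from a reduced connected proper scheme which is pointwise a rational point is constant. -/
theorem eq_const {Z Y : Over (Spec (CommRingCat.of k))} [IsProper Z.hom] [ConnectedSpace Z.left]
    [AlgebraicGeometry.IsReduced Z.left] (z₀ : 𝟙_ (Over (Spec (CommRingCat.of k))) ⟶ Z) (g : Z ⟶ Y)
    (h : ∀ z, g.left.base z = pt (z₀ ≫ g)) : g = toUnit Z ≫ z₀ ≫ g := by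
  haveI : Subsingleton ↥(Spec (CommRingCat.of k)) := inferInstanceAs (Subsingleton (PrimeSpectrum k))
  obtain ⟨V, hV, hc, -⟩ := exists_isAffineOpen_mem_and_subset (X := Y.left) (x := pt (z₀ ≫ g)) (U := ⊤) trivial
  let g' := (toUnit Z ≫ z₀ ≫ g)
  have h' : ∀ z, g'.left.base z = pt (z₀ ≫ g) := fun z => by
    show (z₀ ≫ g).left.base ((toUnit Z).left.base z) = _
    rw [Subsingleton.elim (α := ↥(Spec (CommRingCat.of k))) ((toUnit Z).left.base z) (IsLocalRing.closedPoint k)]
  have hr : ∀ m : Z ⟶ Y, (∀ z, m.left.base z = pt (z₀ ≫ g)) → Set.range m.left.base ⊆ Set.range V.ι.base := by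
    rintro m hm - ⟨z, rfl⟩
    rw [Scheme.Opens.range_ι, hm]; exact hc
  let a := IsOpenImmersion.lift V.ι g.left (hr g h)
  let b := IsOpenImmersion.lift V.ι g'.left (hr g' h')
  have ha : a ≫ V.ι = g.left := IsOpenImmersion.lift_fac _ _ _
  have hb : b ≫ V.ι = g'.left := IsOpenImmersion.lift_fac _ _ _
  haveI : IsAffine (V : Scheme.{u}) := hV
  have hbij : Function.Bijective Z.hom.appTop.hom := AbSch7.appTop_bijective_of_isAlgClosed Z.hom
  have hinj : Function.Injective z₀.left.appTop.hom := by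
    have hid : z₀.left ≫ Z.hom = (𝟙_ (Over (Spec (CommRingCat.of k)))).hom := Over.w z₀
    have he : Z.hom.appTop ≫ z₀.left.appTop = 𝟙 _ := by
      rw [← Scheme.Hom.comp_appTop, hid]; rfl
    intro p q hpq
    obtain ⟨p', rfl⟩ := hbij.2 p
    obtain ⟨q', rfl⟩ := hbij.2 q
    have e1 := congr($(he).hom p')
    have e2 := congr($(he).hom q')
    simp only [CommRingCat.hom_comp, RingHom.comp_apply, CommRingCat.hom_id, RingHom.id_apply] at e1 e2
    rw [← e1, ← e2, hpq]
  have hab : a = b := by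
    apply ext_of_isAffine
    have e : z₀.left ≫ a = z₀.left ≫ b := by
      rw [← cancel_mono V.ι, Category.assoc, Category.assoc, ha, hb, ← Over.comp_left, ← Over.comp_left]
      congr 1
      rw [← Category.assoc z₀, toUnit_unique (z₀ ≫ toUnit Z) (𝟙 _), Category.id_comp]
    have e' := congrArg Scheme.Hom.appTop e
    rw [Scheme.Hom.comp_appTop, Scheme.Hom.comp_appTop] at e'
    ext t
    exact hinj congr($(e').hom t)
  exact Over.OverMorphism.ext (ha.symm.trans ((congrArg (· ≫ V.ι) hab).trans hb))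

variable {A : Over (Spec (CommRingCat.of k))} [GrpObj A] [IsProper A.hom] [Smooth A.hom] [GeometricallyConnected A.hom]
  {Y : Over (Spec (CommRingCat.of k))} [IsSeparated Y.hom]

theorem translate_comp_eq (f : A ⟶ Y) (x : 𝟙_ (Over (Spec (CommRingCat.of k))) ⟶ A)
    (hx : pt x ∈ connectedComponentIn (f.left.base ⁻¹' {pt (η[A] ≫ f)}) (pt η[A])) :
    (lTrans x).hom ≫ f = f := by
  let F : Set A.left := f.left.base ⁻¹' {pt (η[A] ≫ f)}
  let C : Closeds A.left :=
    ⟨connectedComponentIn F (pt η[A]),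
      isClosed_connectedComponentIn ((isClosed_pt _).preimage f.left.continuous) rfl⟩
  let iC := (Scheme.IdealSheafData.vanishingIdeal C).subschemeι
  have hι : Set.range iC.base = (C : Set A.left) := by
    rw [Scheme.IdealSheafData.range_subschemeι, Scheme.IdealSheafData.coe_support_vanishingIdeal]
  let Z : Over (Spec (CommRingCat.of k)) := Over.mk (iC ≫ A.hom)
  haveI : AlgebraicGeometry.IsReduced Z.left := SchBasics.isReduced_vanishingIdeal_subscheme C
  haveI : IsProper Z.hom := inferInstanceAs (IsProper (iC ≫ A.hom))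
  let j : Z ⟶ A := Over.homMk iC rfl
  haveI : ConnectedSpace Z.left := by
    have h1 : _root_.IsConnected (iC.base '' Set.univ) := by
      rw [Set.image_univ, hι]
      exact ⟨⟨_, mem_connectedComponentIn rfl⟩, isPreconnected_connectedComponentIn⟩
    rw [connectedSpace_iff_univ]
    exact ⟨(Set.image_nonempty.mp h1.1),
      iC.isClosedEmbedding.isInducing.isPreconnected_image.mp h1.2⟩
  haveI : LocallyOfFiniteType Z.hom := inferInstance
  have lifts : ∀ w : 𝟙_ (Over (Spec (CommRingCat.of k))) ⟶ A, pt w ∈ (C : Set A.left) →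
      ∃ z : 𝟙_ (Over (Spec (CommRingCat.of k))) ⟶ Z, z ≫ j = w := by
    intro w hw
    obtain ⟨p, hp⟩ := hι.ge hw
    have hpc : IsClosed {p} := by
      rw [show ({p} : Set Z.left) = iC.base ⁻¹' {pt w} from
        Set.ext fun q => ⟨fun h => by rw [Set.mem_singleton_iff.mp h]; exact hp,
          fun h => iC.isClosedEmbedding.injective (h.trans hp.symm)⟩]
      exact (isClosed_pt w).preimage iC.continuous
    refine ⟨sec Z p hpc, ext_of_pt _ _ ?_⟩
    exact (congrArg iC.base (sec_apply Z p hpc _)).trans hp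
  obtain ⟨z₀, hz₀⟩ := lifts η[A] (mem_connectedComponentIn rfl)
  obtain ⟨z, hz⟩ := lifts x hx
  have hcon : j ≫ f = toUnit Z ≫ z₀ ≫ j ≫ f := by
    refine eq_const z₀ (j ≫ f) fun q => ?_
    have h1 : iC.base q ∈ F := connectedComponentIn_subset _ _ (hι.le ⟨q, rfl⟩)
    rw [← Category.assoc z₀, hz₀]
    exact h1
  haveI : IrreducibleSpace A.left := by
    haveI : ConnectedSpace A.left := GeometricallyConnected.connectedSpace_of_subsingleton A.hom
    haveI : CompactSpace A.left := QuasiCompact.compactSpace_of_compactSpace A.hom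
    exact RedPts82.irreducibleSpace_of_connected_grp A
  haveI : AlgebraicGeometry.IsReduced A.left := AlgGrp79.isReduced_of_smooth A.hom
  haveI : IsLocallyNoetherian A.left := LocallyOfFiniteType.isLocallyNoetherian A.hom
  have hX : Function.Bijective ((Scheme.ΓSpecIso (CommRingCat.of k)).inv ≫ Z.hom.appTop).hom :=
    (AbSch7.appTop_bijective_of_isAlgClosed Z.hom).comp
      (Scheme.ΓSpecIso (CommRingCat.of k)).commRingCatIsoToRingEquiv.symm.bijective
  let m : Z ⊗ A ⟶ Y := ((fst Z A ≫ j) * snd Z A) ≫ f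
  have hf : (Z ◁ η[A]) ≫ m = toUnit _ ≫ lift z₀ η[A] ≫ m := by
    have e1 : ((Z ◁ η[A]) ≫ snd Z A : Z ⊗ 𝟙_ _ ⟶ A) = 1 := by
      rw [whiskerLeft_snd, Hom.one_def, toUnit_unique (snd Z (𝟙_ _)) (toUnit _)]
    have e2 : η[A] = (1 : 𝟙_ (Over (Spec (CommRingCat.of k))) ⟶ A) := by
      rw [Hom.one_def, toUnit_unique (toUnit _) (𝟙 _), Category.id_comp]
    have l : (Z ◁ η[A]) ≫ m = fst Z (𝟙_ _) ≫ j ≫ f := by
      rw [← Category.assoc, MonObj.comp_mul, whiskerLeft_fst_assoc, e1, _root_.mul_one, Category.assoc]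
    have r : lift z₀ η[A] ≫ m = z₀ ≫ j ≫ f := by
      rw [← Category.assoc, MonObj.comp_mul, lift_fst_assoc, lift_snd, e2, _root_.mul_one, Category.assoc]
    rw [l, r, hcon, ← Category.assoc (fst Z _), toUnit_unique (fst Z _ ≫ toUnit Z) (toUnit _),
      toUnit_unique (toUnit Z) (toUnit Z), ← Category.assoc z₀ (toUnit Z), toUnit_unique (z₀ ≫ toUnit Z) (𝟙 _),
      Category.id_comp]
  have key := S14577.result k Z A Y hX z₀ η[A] m hf
  have h1 : lift (toUnit A ≫ z) (𝟙 A) ≫ m = (lTrans x).hom ≫ f := by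
    rw [← Category.assoc, MonObj.comp_mul, lift_fst_assoc, lift_snd, Category.assoc, hz]
    rfl
  have h2 : lift (toUnit A ≫ z₀) (𝟙 A) ≫ m = f := by
    rw [← Category.assoc, MonObj.comp_mul, lift_fst_assoc, lift_snd, Category.assoc, hz₀]
    have : toUnit A ≫ η[A] = (1 : A ⟶ A) := Hom.one_def.symm
    rw [this, _root_.one_mul, Category.id_comp]
  rw [← h1, key, lift_snd_assoc, Category.id_comp, h2]

theorem mul_inv_mem (f : A ⟶ Y) (x y : 𝟙_ (Over (Spec (CommRingCat.of k))) ⟶ A)
    (hx : pt x ∈ connectedComponentIn (f.left.base ⁻¹' {pt (η[A] ≫ f)}) (pt η[A]))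
    (hy : pt y ∈ connectedComponentIn (f.left.base ⁻¹' {pt (η[A] ≫ f)}) (pt η[A])) :
    pt (x * y) ∈ connectedComponentIn (f.left.base ⁻¹' {pt (η[A] ≫ f)}) (pt η[A]) ∧
      pt x⁻¹ ∈ connectedComponentIn (f.left.base ⁻¹' {pt (η[A] ≫ f)}) (pt η[A]) := by
  let F : Set A.left := f.left.base ⁻¹' {pt (η[A] ≫ f)}
  have he : (η[A] : 𝟙_ (Over (Spec (CommRingCat.of k))) ⟶ A) = 1 := by
    rw [Hom.one_def, toUnit_unique (toUnit _) (𝟙 _), Category.id_comp]
  have hx1 := translate_comp_eq f x hx
  have hL : ∀ (σ w : 𝟙_ (Over (Spec (CommRingCat.of k))) ⟶ A), (lTrans σ).hom.left.base (pt w) = pt (σ * w) :=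
    fun σ w => by
      have := comp_lTrans w σ
      rw [toUnit_unique (toUnit _) (𝟙 _), Category.id_comp] at this
      exact congrArg (fun q : 𝟙_ (Over (Spec (CommRingCat.of k))) ⟶ A => pt q) this
  have hsub : ∀ (σ : 𝟙_ (Over (Spec (CommRingCat.of k))) ⟶ A), (lTrans σ).hom ≫ f = f →
      pt σ ∈ connectedComponentIn F (pt η[A]) ∨ pt η[A] ∈ (lTrans σ).hom.left.base '' connectedComponentIn F (pt η[A]) →
      (lTrans σ).hom.left.base '' connectedComponentIn F (pt η[A]) ⊆ connectedComponentIn F (pt η[A]) := by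
    intro σ hσ hor
    have hF : (lTrans σ).hom.left.base '' connectedComponentIn F (pt η[A]) ⊆ F := by
      rintro _ ⟨w, hw, rfl⟩
      show f.left.base ((lTrans σ).hom.left.base w) = _
      rw [← Scheme.Hom.comp_apply, ← Over.comp_left, hσ]
      exact connectedComponentIn_subset F (pt η[A]) hw
    have hc : _root_.IsPreconnected ((lTrans σ).hom.left.base '' connectedComponentIn F (pt η[A])) :=
      isPreconnected_connectedComponentIn.image _ (lTrans σ).hom.left.continuous.continuousOn
    rcases hor with hor | hor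
    · have hm : pt σ ∈ (lTrans σ).hom.left.base '' connectedComponentIn F (pt η[A]) :=
        ⟨pt η[A], mem_connectedComponentIn rfl, by rw [hL, he, _root_.mul_one]⟩
      have hs := hc.subset_connectedComponentIn hm hF
      rwa [← connectedComponentIn_eq hor] at hs
    · exact hc.subset_connectedComponentIn hor hF
  have hx2 : (lTrans x⁻¹).hom ≫ f = f := by
    have hinv : (lTrans x⁻¹).hom ≫ (lTrans x).hom = 𝟙 A := by
      rw [comp_lTrans, lTrans, ← _root_.mul_assoc, ← MonObj.comp_mul, mul_inv_cancel, MonObj.comp_one, _root_.one_mul]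
    conv_lhs => rw [← hx1]
    rw [← Category.assoc, hinv, Category.id_comp]
  refine ⟨?_, ?_⟩
  · exact hsub x hx1 (Or.inl hx) ⟨pt y, hy, hL x y⟩
  · refine hsub x⁻¹ hx2 (Or.inr ⟨pt x, hx, ?_⟩) ⟨pt η[A], mem_connectedComponentIn rfl, ?_⟩
    · rw [hL, inv_mul_cancel, he]
    · rw [hL, he, _root_.mul_one]

end Groth.Agent.AbFibre99
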