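import Groth.Agent.FibCrit57.GrpField
import Groth.Agent.Grp57.Dim
import Groth.Agent.Var76.OrbitSmooth
import Groth.Agent.GoodQuot99.Orbits
import Groth.Agent.AbFibre99.Component

/-!
A surjective homomorphism between proper varieties with group laws of the same dimension is finite and flat.
-/

set_option autoImplicit false
set_option backward.isDefEq.respectTransparency.types false
set_option linter.style.haveILetI false

noncomputable section

universe u

open CategoryTheory CategoryTheory.Limits MonoidalCategory CartesianMonoidalCategory MonObj AlgebraicGeometry Order TopologicalSpace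

namespace Groth.Agent.AbFibre99

theorem coheight_apply_le_of_generalizing {X Y : Scheme.{u}} (f : X ⟶ Y) (hf : GeneralizingMap f) (p : X) :
    coheight (f p) ≤ coheight p := by
  suffices h : ∀ n : ℕ, ∀ q : X, coheight q ≤ n → coheight (f q) ≤ n by
    rcases eq_or_ne (coheight p) ⊤ with hp | hp
    · simp [hp]
    · obtain ⟨n, hn⟩ := ENat.ne_top_iff_exists.mp hp
      rw [← hn]; exact h n p hn.symm.le
  intro n
  induction n with
  | zero =>
    intro q hq
    rw [Nat.cast_zero] at hq ⊢
    refine le_of_eq (coheight_eq_zero.mpr fun b hb => ?_)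
    obtain ⟨a, ha, rfl⟩ := hf hb
    exact (show a ⤳ q from ha) |> fun h => ((coheight_eq_zero.mp (le_zero_iff.mp hq)) h).map f.continuous
  | succ n ih =>
    intro q hq
    refine (coheight_le_coe_iff (n := n + 1)).mpr fun b hb => ?_
    obtain ⟨a, ha, rfl⟩ := hf hb.le
    have hlt : q < a := lt_iff_le_not_ge.2 ⟨ha, fun h' => hb.not_ge ((show q ⤳ a from h').map f.continuous)⟩
    have h1 : coheight a < ((n + 1 : ℕ) : ℕ∞) := coheight_le_coe_iff.mp hq a hlt
    have h2 : coheight a ≤ (n : ℕ∞) := by
      rw [Nat.cast_add, Nat.cast_one] at h1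
      exact ENat.lt_add_one_iff (ENat.natCast_ne_top n) |>.mp h1
    exact lt_of_le_of_lt (ih a h2) (by exact_mod_cast Nat.lt_succ_self n)

theorem finite_of_isClosed_points {T : Type u} [TopologicalSpace T] [NoetherianSpace T] [QuasiSober T]
    (h : ∀ p : T, IsClosed ({p} : Set T)) : Finite T := by
  rw [← Set.finite_univ_iff]
  obtain ⟨S, hSfin, hScl, hSirr, hSZ⟩ := NoetherianSpace.exists_finite_set_isClosed_irreducible (s := (Set.univ : Set T)) isClosed_univ
  rw [hSZ]
  refine hSfin.sUnion fun t ht => ?_
  obtain ⟨g, hg⟩ := QuasiSober.sober (hSirr t ht) (hScl t ht)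
  rw [← hg.def, (h g).closure_eq]
  exact Set.finite_singleton g

theorem isFinite_and_flat {k : Type u} [Field k] (X Y : Over (Spec (CommRingCat.of k)))
    [GrpObj X] [IsProper X.hom] [GeometricallyIntegral X.hom]
    [GrpObj Y] [IsProper Y.hom] [GeometricallyIntegral Y.hom]
    (f : X ⟶ Y) [IsMonHom f] [Surjective f.left]
    (hdim : topologicalKrullDim X.left = topologicalKrullDim Y.left) :
    IsFinite f.left ∧ Flat f.left := by
  haveI : IsIntegral Y.left := GeometricallyIntegral.isIntegral_of_subsingleton Y.hom
  haveI hflat : Flat f.left := FibCrit57.flat_of_surjective_of_reduced f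
  refine ⟨?_, hflat⟩
  haveI : IsLocallyNoetherian X.left := LocallyOfFiniteType.isLocallyNoetherian X.hom
  haveI : JacobsonSpace X.left := LocallyOfFiniteType.jacobsonSpace X.hom
  haveI : IsProper f.left := by
    haveI : IsProper (f.left ≫ Y.hom) := by rw [Over.w]; infer_instance
    exact IsProper.of_comp f.left Y.hom
  let K := pullback f η[Y]
  have hK : IsPullback (pullback.fst f η[Y]) (toUnit K) f η[Y] := by
    rw [toUnit_unique (toUnit K) (pullback.snd f η[Y])]
    exact IsPullback.of_hasPullback f η[Y]
  have hK' := AlgGrp79.isPullback_left hK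
  haveI : IsClosedImmersion η[Y].left := by
    haveI : IsClosedImmersion (η[Y].left ≫ Y.hom) := by
      have : η[Y].left ≫ Y.hom = 𝟙 _ := Over.w η[Y]
      rw [this]; infer_instance
    exact IsClosedImmersion.of_comp η[Y].left Y.hom
  haveI : IsClosedImmersion (pullback.fst f η[Y]).left := MorphismProperty.of_isPullback hK'.flip ‹IsClosedImmersion η[Y].left›
  haveI : IsProper (toUnit K).left := MorphismProperty.of_isPullback hK' ‹IsProper f.left›
  let e : Y.left := GoodQuot99.pt η[Y]
  -- all points of the kernel are closed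
  have hclosed : ∀ p : X.left, f.left p = e → IsClosed ({p} : Set X.left) := by
    intro p hp
    obtain ⟨g, hpg, hg⟩ := Grp57.exists_closed_specialization p
    rcases eq_or_ne p g with rfl | hne
    · exact hg
    exfalso
    have hge : f.left g = e := by
      have hs : e ⤳ f.left g := hp ▸ hpg.map f.left.continuous
      exact GoodQuot99.eq_of_mem_closure η[Y] (specializes_iff_mem_closure.mp hs)
    have he : ((coheight e : ℕ∞) : WithBot ℕ∞) = topologicalKrullDim Y.left :=
      Grp57.coheight_eq_dim Y e (isClosed_pt η[Y])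
    have hgd := Grp57.coheight_eq_dim X g hg
    have hle : coheight e ≤ coheight p := hp ▸ coheight_apply_le_of_generalizing f.left (Flat.generalizingMap f.left) p
    have heq : coheight g = coheight e := by
      rw [← hdim, ← hgd] at he
      exact_mod_cast he.symm
    have hlt : g < p := lt_iff_le_not_ge.2 ⟨hpg, fun h' => hne (hpg.antisymm h').eq⟩
    have hfin : coheight g < ⊤ := by
      have h1 : ringKrullDim (X.left.presheaf.stalk g) = ((coheight g : ℕ∞) : WithBot ℕ∞) := ringKrullDim_stalk_eq_coheight g
      have h2 : ringKrullDim (X.left.presheaf.stalk g) < ⊤ := ringKrullDim_lt_top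
      rw [h1] at h2
      exact lt_top_iff_ne_top.mpr fun ht => absurd h2 (by rw [ht]; exact lt_irrefl _)
    exact absurd (coheight_strictAnti hlt (lt_of_le_of_lt (coheight_anti hlt.le) hfin)) (by rw [heq]; exact hle.not_gt)
  have hpts : ∀ p : K.left, IsClosed ({p} : Set K.left) := by
    intro p
    have h1 : f.left ((pullback.fst f η[Y]).left p) = e := by
      rw [← Scheme.Hom.comp_apply, hK'.w, Scheme.Hom.comp_apply]
      haveI : Subsingleton ↥(Spec (CommRingCat.of k)) := inferInstanceAs (Subsingleton (PrimeSpectrum k))
      exact congrArg η[Y].left (Subsingleton.elim (α := ↥(Spec (CommRingCat.of k))) _ _)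
    have h2 : ({p} : Set K.left) = (pullback.fst f η[Y]).left ⁻¹' {(pullback.fst f η[Y]).left p} :=
      Set.ext fun q => ⟨fun h => congrArg _ h, fun h => (pullback.fst f η[Y]).left.isClosedEmbedding.injective h⟩
    rw [h2]
    exact (hclosed _ h1).preimage (pullback.fst f η[Y]).left.continuous
  haveI : IsLocallyNoetherian (𝟙_ (Over (Spec (CommRingCat.of k)))).left :=
    inferInstanceAs (IsLocallyNoetherian (Spec (CommRingCat.of k)))
  haveI : CompactSpace ↥(𝟙_ (Over (Spec (CommRingCat.of k)))).left :=
    inferInstanceAs (CompactSpace ↥(Spec (CommRingCat.of k)))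
  haveI : IsLocallyNoetherian K.left := LocallyOfFiniteType.isLocallyNoetherian (toUnit K).left
  haveI : CompactSpace K.left := QuasiCompact.compactSpace_of_compactSpace (toUnit K).left
  haveI : AlgebraicGeometry.IsNoetherian K.left := ⟨⟩
  haveI : Finite K.left := finite_of_isClosed_points hpts
  haveI : LocallyQuasiFinite (toUnit K).left :=
    LocallyQuasiFinite.of_finite_preimage_singleton _ fun _ => Set.toFinite _
  haveI : IsFinite (toUnit K).left :=
    @IsFinite.of_locallyQuasiFinite _ (Spec (CommRingCat.of k)) (toUnit K).left ‹_› inferInstance inferInstance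
  obtain ⟨u, hu⟩ := FibCrit57.isPullback_ker f hK (IsPullback.of_hasPullback f f)
  have h1 : IsFinite (pullback.snd f f).left :=
    MorphismProperty.of_isPullback (AlgGrp79.isPullback_left hu) ‹IsFinite (toUnit K).left›
  haveI := Unr55.isFinite.{u}
  exact MorphismProperty.of_isPullback_of_descendsAlong (P := @IsFinite)
    (Q := @Surjective ⊓ @Flat ⊓ @QuasiCompact) (AlgGrp79.isPullback_left (IsPullback.of_hasPullback f f)).flip
    ⟨⟨‹Surjective f.left›, hflat⟩, inferInstance⟩ h1

end Groth.Agent.AbFibre99
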